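import Groth.Agent.ProjClosedImmLib.Stalk
import Groth.Agent.KFlatLib.LpullTensor
import Groth.Agent.KFlatLib.LpullAdj

/-!
# Projection formula for a closed immersion in the derived category
-/

set_option autoImplicit false

universe u

open CategoryTheory CategoryTheory.Limits AlgebraicGeometry HomologicalComplex

attribute [local instance] HasDerivedCategory.standard

namespace ProjClosedImmLib

open KFlatLib Groth.Agent.DerLib

variable {X Y : Scheme.{u}} (f : X ⟶ Y) [IsClosedImmersion f]

/-- `f_*` on complexes. -/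
noncomputable abbrev pushCx : CochainComplex X.Modules ℤ ⥤ CochainComplex Y.Modules ℤ :=
  (Scheme.Modules.pushforward f).mapHomologicalComplex (ComplexShape.up ℤ)

theorem preservesHomology_push : (Scheme.Modules.pushforward f).PreservesHomology := by
  haveI : PreservesLimitsOfSize.{0, 0} (Scheme.Modules.pushforward f) :=
    (Scheme.Modules.pullbackPushforwardAdjunction f).rightAdjoint_preservesLimits
  haveI := PreservesLimitsOfSize.preservesFiniteLimits (Scheme.Modules.pushforward f)
  haveI := PreservesColimitsOfSize.preservesFiniteColimits (Scheme.Modules.pushforward f)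
  exact ((Scheme.Modules.pushforward f).exact_tfae.out 3 2 rfl rfl).mp ⟨inferInstance, inferInstance⟩

/-- The derived direct image is the direct image. -/
theorem nonempty_rpush_iso [DCoh.HasRpush f] (K : CochainComplex X.Modules ℤ) :
    Nonempty ((DCoh.Rpush f).obj (DCoh.toD X K) ≅ DCoh.toD Y ((pushCx f).obj K)) := by
  haveI := preservesHomology_push f
  obtain ⟨I, g, hI, hg⟩ := enoughKInj_modules (X := X) K
  haveI := hI
  haveI : QuasiIso g := hg
  let β := (DCoh.pushKh f).totalRightDerivedUnit DerivedCategory.Qh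
    (HomotopyCategory.quasiIso X.Modules (ComplexShape.up ℤ))
  haveI := KInjDerived.isIso_app (DCoh.Rpush f) β enoughKInj_modules I
  haveI : QuasiIso ((pushCx f).map g) := HomologicalComplex.quasiIso_map_of_preservesHomology _ _
  exact ⟨(DCoh.Rpush f).mapIso (asIso (DerivedCategory.Q.map g) ≪≫
      ((DerivedCategory.quotientCompQhIso X.Modules).app I).symm) ≪≫
    (asIso (β.app ((HomotopyCategory.quotient X.Modules (ComplexShape.up ℤ)).obj I))).symm ≪≫
    (DerivedCategory.quotientCompQhIso Y.Modules).app ((pushCx f).obj I) ≪≫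
    (asIso (DerivedCategory.Q.map ((pushCx f).map g))).symm⟩

/-- `(a, b) ↦ a ⊗ f^* b`. -/
noncomputable abbrev tensPull : X.Modules ⥤ Y.Modules ⥤ X.Modules :=
  DCoh.tensorBi (X := X) ⋙ (Functor.whiskeringLeft _ _ _).obj (Scheme.Modules.pullback f)

instance additive_tensPull_obj (a : X.Modules) : ((tensPull f).obj a).Additive :=
  inferInstanceAs (Scheme.Modules.pullback f ⋙ (DCoh.tensorBi (X := X)).obj a).Additive

/-- `f_* K ⊗ P ≅ f_*(K ⊗ f^* P)`. -/
noncomputable def pushTensorCxIso (K : CochainComplex X.Modules ℤ) (P : CochainComplex Y.Modules ℤ) :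
    ((DCoh.tensorCx (X := Y)).obj ((pushCx f).obj K)).obj P ≅
      (pushCx f).obj (((DCoh.tensorCx (X := X)).obj K).obj ((pullCx f).obj P)) :=
  totalMapIso (tensPull f) (DCoh.tensorBi (X := Y)) (Scheme.Modules.pushforward f) (𝟭 Y.Modules)
    (Scheme.Modules.pushforward f) (fun a b => asIso (projR f a b))
    (fun φ b => projR_natural_left f φ b) (fun a {_ _} ψ => projR_natural_right f a ψ) K P

/-- The projection formula. -/
theorem nonempty_projection [DCoh.HasRpush f] (P : CochainComplex Y.Modules ℤ) (hP : DCoh.IsKFlat P)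
    [DCoh.HasLTensorCx P] [DCoh.HasLTensorCx ((pullCx f).obj P)] (E : DCoh.D X) :
    Nonempty ((DCoh.LTensorCx P).obj ((DCoh.Rpush f).obj E) ≅
      (DCoh.Rpush f).obj ((DCoh.LTensorCx ((pullCx f).obj P)).obj E)) := by
  obtain ⟨K, hK, ⟨eK⟩⟩ := exists_good_rep E
  obtain ⟨e₁⟩ := nonempty_rpush_iso f K
  let R := (resP Y).obj ((pushCx f).obj K)
  let q : R ⟶ (pushCx f).obj K := (resψ Y).app _
  haveI : QuasiIso q := quasiIso_resψ _
  obtain ⟨e₂⟩ := exists_lTensorCxObjIso P R (good_resP _).1
  haveI : QuasiIso (((DCoh.tensorCx (X := Y)).map q).app P) :=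
    quasiIso_bimap₁ (DCoh.tensorBi (X := Y)) P hP q
  obtain ⟨e₃⟩ := exists_lTensorCxObjIso ((pullCx f).obj P) K hK.1
  obtain ⟨e₄⟩ := nonempty_rpush_iso f (((DCoh.tensorCx (X := X)).obj K).obj ((pullCx f).obj P))
  exact ⟨(DCoh.LTensorCx P).mapIso ((DCoh.Rpush f).mapIso eK.symm ≪≫ e₁ ≪≫
      (asIso (DerivedCategory.Q.map q)).symm) ≪≫ e₂ ≪≫
    asIso (DerivedCategory.Q.map (((DCoh.tensorCx (X := Y)).map q).app P)) ≪≫
    DerivedCategory.Q.mapIso (pushTensorCxIso f K P) ≪≫ e₄.symm ≪≫
    (DCoh.Rpush f).mapIso (e₃.symm ≪≫ (DCoh.LTensorCx ((pullCx f).obj P)).mapIso eK)⟩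

end ProjClosedImmLib
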