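import Groth.Agent.KFlatLib.PullTensor
import Groth.Agent.DevissLib.ClosedImm
import Mathlib.Algebra.Category.ModuleCat.Colimits
import Mathlib.LinearAlgebra.TensorProduct.Tower

/-!
# Direct images along closed immersions, stalkwise

The direct image along a closed immersion is exact, preserves colimits, and satisfies the projection
formula for arbitrary modules.
-/

set_option autoImplicit false

universe u

open CategoryTheory CategoryTheory.Limits AlgebraicGeometry TopologicalSpace Opposite
open scoped TensorProduct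

namespace ProjClosedImmLib

open KFlatLib

/-- The stalk, as an abelian group. -/
noncomputable abbrev abStalk (X : Scheme.{u}) (x : X) : X.Modules ⥤ AddCommGrpCat.{u} :=
  DerSch.stalkFunctor X x ⋙ forget₂ (ModuleCat.{u} (X.presheaf.stalk x)) AddCommGrpCat.{u}

theorem isIso_of_abStalk {X : Scheme.{u}} {M N : X.Modules} (φ : M ⟶ N)
    (h : ∀ x, IsIso ((abStalk X x).map φ)) : IsIso φ :=
  isIso_of_stalks φ fun x => (ConcreteCategory.isIso_iff_bijective _).2
    (haveI := h x; ConcreteCategory.bijective_of_isIso ((abStalk X x).map φ))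

variable {X Y : Scheme.{u}} (f : X ⟶ Y) [IsClosedImmersion f]

/-- `(f_* M)_{f x} → M_x`. -/
noncomputable def pushStalk (x : X) (M : X.Modules) :
    (abStalk Y (f x)).obj (pf f M) ⟶ (abStalk X x).obj M :=
  TopCat.Presheaf.stalkPushforward AddCommGrpCat.{u} f.base M.presheaf x

theorem pushStalk_germ (x : X) (M : X.Modules) {U : Y.Opens} (hx : f x ∈ U) (s : Γ(pf f M, U)) :
    pushStalk f x M ((pf f M).presheaf.germ U (f x) hx s) = M.presheaf.germ (f ⁻¹ᵁ U) x hx s :=
  ConcreteCategory.congr_hom
    (TopCat.Presheaf.stalkPushforward_germ AddCommGrpCat.{u} f.base M.presheaf U x hx) s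

instance isIso_pushStalk (x : X) (M : X.Modules) : IsIso (pushStalk f x M) :=
  TopCat.Presheaf.stalkPushforward.stalkPushforward_iso_of_isInducing AddCommGrpCat.{u}
    f.isClosedEmbedding.isInducing M.presheaf x

theorem pushStalk_natural (x : X) {M N : X.Modules} (φ : M ⟶ N) :
    (Scheme.Modules.pushforward f ⋙ abStalk Y (f x)).map φ ≫ pushStalk f x N =
      pushStalk f x M ≫ (abStalk X x).map φ := by
  refine ConcreteCategory.hom_ext _ _ fun a => ?_
  obtain ⟨U, hU, s, rfl⟩ := (pf f M).presheaf.exists_germ_eq (x := f x) a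
  refine (congrArg (pushStalk f x N)
    (DerSch.stalkFunctor_map_germ (f x) ((Scheme.Modules.pushforward f).map φ) U hU s)).trans ?_
  refine (pushStalk_germ f x N hU _).trans ?_
  refine Eq.trans ?_ (congrArg ((abStalk X x).map φ) (pushStalk_germ f x M hU s)).symm
  exact (DerSch.stalkFunctor_map_germ x φ (f ⁻¹ᵁ U) hU s).symm

/-- Stalks of direct images at points of the image. -/
noncomputable def pushStalkIso (x : X) : Scheme.Modules.pushforward f ⋙ abStalk Y (f x) ≅ abStalk X x :=
  NatIso.ofComponents (fun M => asIso (pushStalk f x M)) fun φ => pushStalk_natural f x φ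

theorem subsingleton_stalk (M : X.Modules) {y : Y} (hy : y ∉ Set.range ⇑f) :
    Subsingleton ((pf f M).presheaf.stalk y) :=
  not_not.mp fun h => hy (DevissLib.support_push_subset f M h)

theorem preservesColimit_comp_abStalk (y : Y) :
    PreservesColimitsOfSize.{0, 0} (Scheme.Modules.pushforward f ⋙ abStalk Y y) := by
  by_cases hy : y ∈ Set.range ⇑f
  · obtain ⟨x, rfl⟩ := hy
    exact preservesColimits_of_natIso (pushStalkIso f x).symm
  · have hz : IsZero (Scheme.Modules.pushforward f ⋙ abStalk Y y) := (Functor.isZero _ fun M => by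
      have := subsingleton_stalk f M hy
      exact AddCommGrpCat.isZero_of_subsingleton (AddCommGrpCat.of ((pf f M).presheaf.stalk y)))
    exact Functor.preservesColimitsOfSize_of_isZero _ hz

instance preservesColimits_push : PreservesColimitsOfSize.{0, 0} (Scheme.Modules.pushforward f) := by
  refine ⟨fun {J} _ => ⟨fun {K} => ⟨fun {c} hc => ⟨?_⟩⟩⟩⟩
  let P := Scheme.Modules.pushforward f
  let d := colimit.desc (K ⋙ P) (P.mapCocone c)
  have : IsIso d := by
    refine isIso_of_abStalk d fun y => ?_
    have := preservesColimit_comp_abStalk f y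
    have h₁ := isColimitOfPreserves (P ⋙ abStalk Y y) hc
    have h₂ := isColimitOfPreserves (abStalk Y y) (colimit.isColimit (K ⋙ P))
    let e := h₂.coconePointUniqueUpToIso (t := (P ⋙ abStalk Y y).mapCocone c) h₁
    have he : (abStalk Y y).map d = e.hom := h₂.hom_ext fun j => by
      refine Eq.trans ?_ (h₂.comp_coconePointUniqueUpToIso_hom h₁ j).symm
      change (abStalk Y y).map (colimit.ι (K ⋙ P) j) ≫ (abStalk Y y).map d =
        (abStalk Y y).map (P.map (c.ι.app j))
      rw [← Functor.map_comp]
      exact congrArg (abStalk Y y).map (colimit.ι_desc _ j)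
    rw [he]
    infer_instance
  exact @IsColimit.ofPointIso _ _ _ _ _ _ _ (colimit.isColimit (K ⋙ P)) ‹IsIso d›

theorem bijective_aux {A B : Type u} [CommRing A] [CommRing B] [Algebra A B] {N M V : Type u}
    [AddCommGroup N] [Module A N] [AddCommGroup M] [Module B M] [AddCommGroup V] [Module A V]
    (p : N →+ M) (hp : Function.Bijective p) (hps : ∀ (c : A) (n : N), p (c • n) = algebraMap A B c • p n)
    (g : N ⊗[A] V →+ M ⊗[B] (B ⊗[A] V))
    (hg : ∀ n v, g (n ⊗ₜ[A] v) = p n ⊗ₜ[B] ((1 : B) ⊗ₜ[A] v)) : Function.Bijective g := by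
  letI : Module A M := Module.compHom M (algebraMap A B)
  haveI : IsScalarTower A B M := IsScalarTower.of_algebraMap_smul fun _ _ => rfl
  let p' : N ≃ₗ[A] M := LinearEquiv.ofBijective ({ p with map_smul' := hps } : N →ₗ[A] M) hp
  let c := (TensorProduct.AlgebraTensorModule.cancelBaseChange A B B M V).symm
  have h : ⇑g = ⇑c ∘ ⇑(TensorProduct.congr p' (LinearEquiv.refl A V)) := by
    funext t
    induction t using TensorProduct.induction_on with
    | zero => simp
    | tmul n v =>
      rw [hg]
      simp [c, p']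
    | add a b ha hb =>
      simp only [Function.comp_apply] at ha hb ⊢
      simp only [map_add, ha, hb]
  rw [h]
  exact c.bijective.comp (LinearEquiv.bijective _)

/-- `(f_* M)_{f x} → M_x` on the stalk modules. -/
noncomputable def pS (x : X) (M : X.Modules) :
    (DerSch.stalkFunctor Y (f x)).obj (pf f M) →+ (DerSch.stalkFunctor X x).obj M :=
  (pushStalk f x M).hom

theorem pS_germ (x : X) (M : X.Modules) {U : Y.Opens} (hx : f x ∈ U) (s : Γ(pf f M, U)) :
    pS f x M ((pf f M).presheaf.germ U (f x) hx s) = M.presheaf.germ (f ⁻¹ᵁ U) x hx s :=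
  pushStalk_germ f x M hx s

theorem pS_bijective (x : X) (M : X.Modules) : Function.Bijective (pS f x M) :=
  ConcreteCategory.bijective_of_isIso (pushStalk f x M)

theorem pS_smul (x : X) (M : X.Modules) (c : Y.presheaf.stalk (f x))
    (n : (DerSch.stalkFunctor Y (f x)).obj (pf f M)) :
    pS f x M (c • n) = f.stalkMap x c • pS f x M n := by
  obtain ⟨U, hU, r, rfl⟩ := Y.presheaf.exists_germ_eq (x := f x) c
  obtain ⟨V, hV, s, rfl⟩ := (pf f M).presheaf.exists_germ_eq (x := f x) n
  have hW : f x ∈ U ⊓ V := ⟨hU, hV⟩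
  rw [← TopCat.Presheaf.germ_res_apply Y.presheaf (homOfLE (inf_le_left : U ⊓ V ≤ U)) (f x) hW r,
    ← TopCat.Presheaf.germ_res_apply (pf f M).presheaf (homOfLE (inf_le_right : U ⊓ V ≤ V)) (f x) hW s,
    Scheme.Hom.germ_stalkMap_apply]
  refine (congrArg (pS f x M)
    (PresheafOfModules.germ_smul (show PM Y.presheaf from (pf f M).val) (f x) (U ⊓ V) hW _ _).symm).trans ?_
  refine (pS_germ f x M hW _).trans ?_
  refine Eq.trans ?_ (congrArg (_ • ·) (pS_germ f x M hW _)).symm
  exact PresheafOfModules.germ_smul (show PM X.presheaf from M.val) x (f ⁻¹ᵁ (U ⊓ V)) hW _ _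

omit [IsClosedImmersion f] in
/-- The projection map `f_* a ⊗ b ⟶ f_*(a ⊗ f^* b)`. -/
noncomputable def projR (a : X.Modules) (b : Y.Modules) : tens (pf f a) b ⟶ pf f (tens a (pb f b)) :=
  ((DCoh.tensorBi (X := Y)).obj (pf f a)).map ((Scheme.Modules.pullbackPushforwardAdjunction f).unit.app b) ≫
    pushμ f a (pb f b)

omit [IsClosedImmersion f] in
theorem projR_shTm (a : X.Modules) (b : Y.Modules) {U : Y.Opens} (s : Γ(pf f a, U)) (t : Γ(b, U)) :
    (projR f a b).app U (shTm s t) = shTm (show Γ(a, f ⁻¹ᵁ U) from s) (puSec f t) :=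
  (congrArg ((pushμ f a (pb f b)).app U) (tensorBi_map₂_shTm (pf f a) _ s t)).trans
    (pushμ_shApp f a (pb f b) U s _)

omit [IsClosedImmersion f] in
theorem projR_natural_left {a a' : X.Modules} (φ : a ⟶ a') (b : Y.Modules) :
    ((DCoh.tensorBi (X := Y)).map ((Scheme.Modules.pushforward f).map φ)).app b ≫ projR f a' b =
      projR f a b ≫ (Scheme.Modules.pushforward f).map (((DCoh.tensorBi (X := X)).map φ).app (pb f b)) := by
  refine tens_hom_ext fun U s t => ?_
  refine ((congrArg ((projR f a' b).app U) (tensorBi_map₁_shTm ((Scheme.Modules.pushforward f).map φ) b s t)).trans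
    (projR_shTm f a' b _ t)).trans (Eq.symm ?_)
  refine (congrArg (((Scheme.Modules.pushforward f).map (((DCoh.tensorBi (X := X)).map φ).app (pb f b))).app U)
    (projR_shTm f a b s t)).trans ?_
  exact tensorBi_map₁_shTm φ (pb f b) (show Γ(a, f ⁻¹ᵁ U) from s) (puSec f t)

omit [IsClosedImmersion f] in
theorem projR_natural_right (a : X.Modules) {b b' : Y.Modules} (ψ : b ⟶ b') :
    ((DCoh.tensorBi (X := Y)).obj (pf f a)).map ψ ≫ projR f a b' =
      projR f a b ≫ (Scheme.Modules.pushforward f).map
        (((DCoh.tensorBi (X := X)).obj a).map ((Scheme.Modules.pullback f).map ψ)) := by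
  refine tens_hom_ext fun U s t => ?_
  refine ((congrArg ((projR f a b').app U) (tensorBi_map₂_shTm (pf f a) ψ s t)).trans
    (projR_shTm f a b' s _)).trans (Eq.symm ?_)
  refine (congrArg (((Scheme.Modules.pushforward f).map (((DCoh.tensorBi (X := X)).obj a).map
    ((Scheme.Modules.pullback f).map ψ))).app U) (projR_shTm f a b s t)).trans ?_
  exact (tensorBi_map₂_shTm a _ (show Γ(a, f ⁻¹ᵁ U) from s) (puSec f t)).trans
    (congrArg (shTm _ ·) (puSec_natural f ψ t))

instance isIso_projR (a : X.Modules) (b : Y.Modules) : IsIso (projR f a b) := by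
  refine isIso_of_abStalk _ fun y => (ConcreteCategory.isIso_iff_bijective _).2 ?_
  by_cases hy : y ∈ Set.range ⇑f
  · obtain ⟨x, rfl⟩ := hy
    letI := (f.stalkMap x).hom.toAlgebra
    let L := stalkTensorLin (pf f a) b (f x)
    let φ := (abStalk Y (f x)).map (projR f a b)
    let p := pS f x (tens a (pb f b))
    let R := stalkTensorIso a (pb f b) x
    let e := (stalkPullIso f x).app b
    let g₀ : (DerSch.stalkFunctor X x).obj (tens a (pb f b)) →
        ((DerSch.stalkFunctor X x).obj a) ⊗[X.presheaf.stalk x]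
          ((X.presheaf.stalk x) ⊗[Y.presheaf.stalk (f x)] (DerSch.stalkFunctor Y (f x)).obj b) :=
      fun w => TensorProduct.congr (LinearEquiv.refl _ _) e.toLinearEquiv (R.inv.hom w)
    have hg₀ : Function.Bijective g₀ := (LinearEquiv.bijective _).comp R.toLinearEquiv.symm.bijective
    let g : (DerSch.stalkFunctor Y (f x)).obj (pf f a) ⊗[Y.presheaf.stalk (f x)]
        (DerSch.stalkFunctor Y (f x)).obj b →+ _ :=
      AddMonoidHom.mk' (fun t => g₀ (p (φ (L t)))) fun t t' => by
        simp only [g₀]
        erw [map_add L, map_add φ.hom, map_add p, map_add R.inv.hom]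
        exact map_add _ _ _
    have key : Function.Bijective g := by
      refine bijective_aux (B := X.presheaf.stalk x)
        (pS f x a) (pS_bijective f x a)
        (pS_smul f x a) g fun m v => ?_
      obtain ⟨U, hU, s, t, rfl, rfl⟩ := exists_germ₂ (f x) m v
      change g₀ (p (φ (L _))) = _
      have h1 : p (φ (L ((pf f a).presheaf.germ U (f x) hU s ⊗ₜ b.presheaf.germ U (f x) hU t))) =
          tmGerm a (pb f b) x (U := f ⁻¹ᵁ U) hU (show Γ(a, f ⁻¹ᵁ U) from s) (puSec f t) := by
        refine (congrArg (fun w => p (φ w)) (stalkTensorLin_germ (pf f a) b (f x) hU s t)).trans ?_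
        refine (congrArg p (DerSch.stalkFunctor_map_germ (f x) (projR f a b) U hU _)).trans ?_
        refine (pS_germ f x _ hU _).trans ?_
        exact congrArg (fun w => (tens a (pb f b)).presheaf.germ (f ⁻¹ᵁ U) x hU w) (projR_shTm f a b s t)
      refine (congrArg g₀ h1).trans ?_
      have h2 : R.inv.hom (tmGerm a (pb f b) x (U := f ⁻¹ᵁ U) hU (show Γ(a, f ⁻¹ᵁ U) from s) (puSec f t)) =
          a.presheaf.germ (f ⁻¹ᵁ U) x hU (show Γ(a, f ⁻¹ᵁ U) from s) ⊗ₜ
            (pb f b).presheaf.germ (f ⁻¹ᵁ U) x hU (puSec f t) := by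
        apply R.toLinearEquiv.injective
        exact (R.toLinearEquiv.apply_symm_apply _).trans (stalkTensorIso_hom_tmul a (pb f b) x hU _ _).symm
      refine (congrArg (TensorProduct.congr (LinearEquiv.refl _ _) e.toLinearEquiv) h2).trans ?_
      refine (TensorProduct.congr_tmul _ _ _ _).trans ?_
      refine congrArg₂ (· ⊗ₜ ·) (pS_germ f x a hU s).symm ?_
      apply e.toLinearEquiv.symm.injective
      exact (e.toLinearEquiv.symm_apply_apply _).trans (stalkPullInv_germ f b x (U := U) hU t).symm
    have h3 : Function.Bijective (fun w => g₀ (p (φ w))) :=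
      (Function.Bijective.of_comp_iff (fun w => g₀ (p (φ w)))
        (stalkTensorLin_bijective (pf f a) b (f x))).1 key
    have hp : Function.Bijective (fun w => g₀ (p w)) :=
      hg₀.comp (pS_bijective f x _)
    exact (Function.Bijective.of_comp_iff' hp φ).1 h3
  · have h1 := subsingleton_stalk f a hy
    have h2 := subsingleton_stalk f (tens a (pb f b)) hy
    have h3 : Subsingleton ((tens (pf f a) b).presheaf.stalk y) := by
      refine ⟨fun u v => ?_⟩
      have hz : ∀ t : (DerSch.stalkFunctor Y y).obj (pf f a) ⊗[Y.presheaf.stalk y]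
          (DerSch.stalkFunctor Y y).obj b, t = 0 := fun t => by
        induction t using TensorProduct.induction_on with
        | zero => rfl
        | tmul m n =>
          rw [show m = 0 from @Subsingleton.elim _ h1 _ _, TensorProduct.zero_tmul]
        | add t t' h h' => rw [h, h', add_zero]
      obtain ⟨u, rfl⟩ := (stalkTensorLin_bijective (pf f a) b y).2 u
      obtain ⟨v, rfl⟩ := (stalkTensorLin_bijective (pf f a) b y).2 v
      rw [hz u, hz v]
    exact ⟨fun u v _ => @Subsingleton.elim _ h3 u v, fun w => ⟨0, @Subsingleton.elim _ h2 _ _⟩⟩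

end ProjClosedImmLib
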